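import Cfsg.Agent.H482.TwoCyc.Small
import Cfsg.Agent.H482.TwoCyc.Row
import Cfsg.Agent.H384.Cyc.Tools
import Cfsg.Agent.H501.TwoCyc.IdxE6
import Cfsg.Agent.H501.TwoCyc.IdxE6Three
import Cfsg.Agent.H934.HeisE7
import Cfsg.Agent.H934.HeisE8
import Cfsg.Agent.S2123
import Cfsg.Agent.S2124
import Cfsg.Agent.S2125

/-!
# TWOCYC (S3507): the rows `E₈(q)`, `E₇(q)`, `E₆(q)`, all `q` (helper501)

`sm_e8`, `sm_e7`, `sm_e6` : `Sm` for the groups `D.group F`; `row_e8`, `row_e7`, `row_e6` : the rows `Row3`.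
-/

set_option autoImplicit false

namespace Cfsg.Agent.H501.TwoCyc.Rows

open Cfsg Cfsg.Lie Cfsg.Agent.H384.Cyc Cfsg.Agent.H482.TwoCyc Cfsg.Agent.H482.TwoCyc.Untw
  Cfsg.Agent.H482.TwoCyc.Small

universe u v w

theorem mo {T : Type u} [Group T] [Finite T] {B c : ℕ} (hc : Nat.card (Cfsg.Out T) ≤ c)
    (hB : ∀ x : T, orderOf x ≤ B) : Mo T (c * B) := by
  have hN : (MulAut.conj : T →* MulAut T).range.Normal := by
    constructor
    rintro _ ⟨t, rfl⟩ α
    refine ⟨α t, ?_⟩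
    ext g
    simp
  refine mo_of_index (MulAut.conj : T →* MulAut T).range hc ?_
  rintro _ ⟨t, rfl⟩
  have h1 : orderOf (MulAut.conj t) ≤ orderOf t :=
    Nat.le_of_dvd (orderOf_pos t) (orderOf_map_dvd (MulAut.conj : T →* MulAut T) t)
  exact h1.trans (hB t)

theorem two_mul_le_pow {p f : ℕ} (hp : 2 ≤ p) (hf : 0 < f) : 2 * f ≤ p ^ f := by
  calc 2 * f ≤ 2 ^ f := by
        induction f with
        | zero => omega
        | succ n ih =>
          rcases Nat.eq_zero_or_pos n with h | h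
          · subst h; norm_num
          · have := ih h
            rw [pow_succ]
            omega
    _ ≤ p ^ f := Nat.pow_le_pow_left hp f

theorem pow_inj' {p a b : ℕ} (hp : 2 ≤ p) (h : p ^ a = p ^ b) : a = b := Nat.pow_right_injective hp h

/-- the bound of the engine with a fixed prime -/
theorem le_of_ords {G : Type u} [Group G] {p f l N J2 J3 : ℕ} (hp : p.Prime) (hf : 0 < f) {x : G}
    (h : Ords (p ^ f) l N J2 J3 x) : orderOf x ≤ (p ^ f + 1) ^ l * p ^ (if p = 2 then J2 else J3) := by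
  obtain ⟨p', e, hp', he, hq, h1⟩ := h.le
  have h2 : p = p' := by
    have h3 : p ∣ p' ^ e := by rw [← hq]; exact dvd_pow_self p hf.ne'
    exact (Nat.prime_dvd_prime_iff_eq hp hp').1 (hp.dvd_of_dvd_pow h3)
  subst h2
  exact h1

variable {F : Type u} [Field F] [Fintype F]

/-- `E₈(q)` -/
theorem sm_e8 (hs : IsSimpleGroup ↥(chevE8.group F)) : Sm ↥(chevE8.group F) := by
  have : Finite (GL chevE8.Idx F) := inferInstance
  obtain ⟨⟨f, hf0⟩, hp, hF⟩ := FiniteField.card F (ringChar F)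
  generalize ringChar F = p at hp hF
  have hF' : Fintype.card F = p ^ f := hF
  have : Fact p.Prime := ⟨hp⟩
  have : CharP F p := charP_of_card_eq_prime_pow hF'
  have hout := Cfsg.Agent.S2125.result p f hF'
  have hB : ∀ x : ↥(chevE8.group F), orderOf x ≤ (p ^ f + 1) ^ 8 * p ^ (if p = 2 then 5 else 4) := by
    intro x
    have h1 := ords_E8 x
    rw [Nat.card_eq_fintype_card, hF'] at h1
    exact le_of_ords hp hf0 h1
  refine ⟨_, mo hout.le hB, fun H hH => ?_⟩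
  refine lt_of_lt_of_le ?_ (Cfsg.Agent.H934.HeisE8.two_mul_le hs H hH)
  rw [hF']
  have h1 := two_mul_le_pow hp.two_le hf0
  have h2 : p ≤ p ^ f := Nat.le_self_pow hf0.ne' p
  have hq : 2 ≤ p ^ f := hp.two_le.trans h2
  have h5 : p ^ (if p = 2 then 5 else 4) ≤ (p ^ f) ^ 5 := by
    calc p ^ (if p = 2 then 5 else 4) ≤ p ^ 5 := Nat.pow_le_pow_right hp.pos (by split_ifs <;> norm_num)
      _ ≤ (p ^ f) ^ 5 := Nat.pow_le_pow_left h2 5
  generalize p ^ (if p = 2 then 5 else 4) = P at *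
  generalize p ^ f = q at *
  have h4 : (q + 1) ^ 8 ≤ (2 * q) ^ 8 := Nat.pow_le_pow_left (by omega) 8
  have h6 : f * ((q + 1) ^ 8 * P) ≤ q * ((2 * q) ^ 8 * q ^ 5) := Nat.mul_le_mul (by omega) (Nat.mul_le_mul h4 h5)
  have h7 : 2 ^ 15 ≤ q ^ 15 := Nat.pow_le_pow_left hq 15
  have h8 : q * ((2 * q) ^ 8 * q ^ 5) = 256 * q ^ 14 := by ring
  have h9 : 0 < q ^ 14 := pow_pos (by omega) _
  have h10 : q ^ 29 = q ^ 15 * q ^ 14 := by ring
  rw [h10]
  nlinarith

/-- `E₇(q)` -/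
theorem sm_e7 (hs : IsSimpleGroup ↥(chevE7.group F)) : Sm ↥(chevE7.group F) := by
  have : Finite (GL chevE7.Idx F) := inferInstance
  obtain ⟨⟨f, hf0⟩, hp, hF⟩ := FiniteField.card F (ringChar F)
  generalize ringChar F = p at hp hF
  have hF' : Fintype.card F = p ^ f := hF
  have : Fact p.Prime := ⟨hp⟩
  have : CharP F p := charP_of_card_eq_prime_pow hF'
  have hout := Cfsg.Agent.S2124.result p f hF'
  have hB : ∀ x : ↥(chevE7.group F), orderOf x ≤ (p ^ f + 1) ^ 7 * p ^ (if p = 2 then 5 else 3) := by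
    intro x
    have h1 := ords_E7 x
    rw [Nat.card_eq_fintype_card, hF'] at h1
    exact le_of_ords hp hf0 h1
  have h1 := two_mul_le_pow hp.two_le hf0
  have h2 : p ≤ p ^ f := Nat.le_self_pow hf0.ne' p
  have hq : 2 ≤ p ^ f := hp.two_le.trans h2
  rcases Nat.lt_or_ge (p ^ f) 3 with h3 | h3
  · -- `q = 2`
    have h4 : p ^ f = 2 := by omega
    have h5 : p = 2 := by
      rw [h4] at h2
      have := hp.two_le
      omega
    subst h5
    have h6 : f = 1 := pow_inj' le_rfl (by rw [h4, pow_one])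
    subst h6
    rw [show Nat.gcd 2 (2 ^ 1 - 1) * 1 = 1 by norm_num] at hout
    refine ⟨_, mo hout.le hB, fun H hH => ?_⟩
    refine lt_of_lt_of_le ?_ (Cfsg.Agent.H934.HeisE7.two_mul_le hs H hH)
    rw [hF']
    norm_num
  · have hg : Nat.gcd 2 (p ^ f - 1) * f ≤ 2 * f :=
      Nat.mul_le_mul_right _ (Nat.le_of_dvd (by norm_num) (Nat.gcd_dvd_left _ _))
    refine ⟨_, mo (hout.le.trans hg) hB, fun H hH => ?_⟩
    refine lt_of_lt_of_le ?_ (Cfsg.Agent.H934.HeisE7.two_mul_le hs H hH)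
    rw [hF']
    have h5 : p ^ (if p = 2 then 5 else 3) ≤ (p ^ f) ^ 3 := by
      by_cases h : p = 2
      · rw [if_pos h]
        have h4 : 4 ≤ p ^ f := by
          rcases Nat.lt_or_ge f 2 with h6 | h6
          · have h7 : f = 1 := by omega
            rw [h7, h] at h3
            norm_num at h3
          · calc 4 = 2 ^ 2 := by norm_num
              _ ≤ p ^ f := by rw [h]; exact Nat.pow_le_pow_right (by norm_num) h6
        calc p ^ 5 = 32 := by rw [h]; norm_num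
          _ ≤ 4 ^ 3 := by norm_num
          _ ≤ (p ^ f) ^ 3 := Nat.pow_le_pow_left h4 3
      · rw [if_neg h]
        exact Nat.pow_le_pow_left h2 3
    generalize p ^ (if p = 2 then 5 else 3) = P at *
    generalize p ^ f = q at *
    have h4 : (q + 1) ^ 7 ≤ (2 * q) ^ 7 := Nat.pow_le_pow_left (by omega) 7
    have h6 : 2 * f * ((q + 1) ^ 7 * P) ≤ q * ((2 * q) ^ 7 * q ^ 3) := Nat.mul_le_mul h1 (Nat.mul_le_mul h4 h5)
    have h7 : 3 ^ 6 ≤ q ^ 6 := Nat.pow_le_pow_left h3 6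
    have h8 : q * ((2 * q) ^ 7 * q ^ 3) = 128 * q ^ 11 := by ring
    have h9 : 0 < q ^ 11 := pow_pos (by omega) _
    have h10 : q ^ 17 = q ^ 6 * q ^ 11 := by ring
    rw [h10]
    nlinarith

/-- the numerical part for `E₆(q)`, `q ≥ 5` -/
theorem num_e6 {p f : ℕ} (hp : p.Prime) (hf0 : 0 < f) (h5 : 5 ≤ p ^ f) :
    2 * Nat.gcd 3 (p ^ f - 1) * f * p ^ (if p = 2 then 4 else 3) ≤ 6 * (p ^ f) ^ 3 := by
  have h1 := two_mul_le_pow hp.two_le hf0
  have h2 : p ≤ p ^ f := Nat.le_self_pow hf0.ne' p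
  have hg : Nat.gcd 3 (p ^ f - 1) ≤ 3 := Nat.le_of_dvd (by norm_num) (Nat.gcd_dvd_left _ _)
  have hc : 2 * Nat.gcd 3 (p ^ f - 1) * f ≤ 6 * f := by nlinarith
  by_cases h : p = 2
  · rw [if_pos h]
    have h3 : p ^ 4 = 16 := by rw [h]; norm_num
    rw [h3]
    generalize 2 * Nat.gcd 3 (p ^ f - 1) * f = c at *
    generalize p ^ f = q at *
    have h4 : 5 ^ 2 ≤ q ^ 2 := Nat.pow_le_pow_left h5 2
    have h6 : q ^ 3 = q ^ 2 * q := by ring
    rw [h6]
    nlinarith
  · rw [if_neg h]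
    rcases Nat.lt_or_ge f 2 with h3 | h3
    · have h4 : f = 1 := by omega
      have h6 : p ^ 3 ≤ (p ^ f) ^ 3 := Nat.pow_le_pow_left h2 3
      rw [h4, mul_one]
      rw [h4] at h6 hc
      exact Nat.mul_le_mul (by simpa using hc) h6
    · have h4 : p ^ 3 ≤ (p ^ f) ^ 2 := by
        rw [← pow_mul]
        exact Nat.pow_le_pow_right hp.pos (by omega)
      calc 2 * Nat.gcd 3 (p ^ f - 1) * f * p ^ 3 ≤ (6 * f) * (p ^ f) ^ 2 := Nat.mul_le_mul hc h4
        _ = 3 * ((2 * f) * (p ^ f) ^ 2) := by ring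
        _ ≤ 3 * ((p ^ f) * (p ^ f) ^ 2) := Nat.mul_le_mul_left _ (Nat.mul_le_mul_right _ h1)
        _ ≤ 6 * (p ^ f) ^ 3 := by
          have : (p ^ f) * (p ^ f) ^ 2 = (p ^ f) ^ 3 := by ring
          rw [this]
          omega

/-- `E₆(q)` -/
theorem sm_e6 (hs : IsSimpleGroup ↥(chevE6.group F)) : Sm ↥(chevE6.group F) := by
  have : Finite (GL chevE6.Idx F) := inferInstance
  obtain ⟨⟨f, hf0⟩, hp, hF⟩ := FiniteField.card F (ringChar F)
  generalize ringChar F = p at hp hF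
  have hF' : Fintype.card F = p ^ f := hF
  have : Fact p.Prime := ⟨hp⟩
  have : CharP F p := charP_of_card_eq_prime_pow hF'
  have hout := Cfsg.Agent.S2123.result p f hF'
  have hB : ∀ x : ↥(chevE6.group F), orderOf x ≤ (p ^ f + 1) ^ 6 * p ^ (if p = 2 then 4 else 3) := by
    intro x
    have h1 := ords_E6 x
    rw [Nat.card_eq_fintype_card, hF'] at h1
    exact le_of_ords hp hf0 h1
  have h2 : p ≤ p ^ f := Nat.le_self_pow hf0.ne' p
  have hq : 2 ≤ p ^ f := hp.two_le.trans h2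
  rcases Nat.lt_or_ge (p ^ f) 5 with h3 | h3
  · have h4 : p ^ f = 2 ∨ p ^ f = 3 ∨ p ^ f = 4 := by omega
    rcases h4 with h4 | h4 | h4
    · -- `q = 2`
      have h5 : p = 2 := by
        rw [h4] at h2
        have := hp.two_le
        omega
      subst h5
      have h6 : f = 1 := pow_inj' le_rfl (by rw [h4, pow_one])
      subst h6
      rw [show 2 * Nat.gcd 3 (2 ^ 1 - 1) * 1 = 2 by norm_num] at hout
      have h7 : Fintype.card F = 2 := by rw [hF', pow_one]
      refine ⟨_, mo hout.le (fun x => E6_two (by rw [Nat.card_eq_fintype_card, h7]) x), fun H hH => ?_⟩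
      refine lt_of_lt_of_le ?_ (IdxE6.le_index h7 hs H hH)
      norm_num
    · -- `q = 3`
      have h5 : p = 3 := by
        have h6 : p ∣ 3 := by
          rw [← h4]
          exact dvd_pow_self p hf0.ne'
        exact (Nat.prime_dvd_prime_iff_eq hp Nat.prime_three).1 h6
      subst h5
      have h6 : f = 1 := pow_inj' (p := 3) (by norm_num) (by rw [h4, pow_one])
      subst h6
      rw [show 2 * Nat.gcd 3 (3 ^ 1 - 1) * 1 = 2 by norm_num] at hout
      refine ⟨_, mo hout.le hB, fun H hH => ?_⟩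
      refine lt_of_lt_of_le ?_ (IdxE6Three.le_index (p := 3) hs H hH)
      rw [hF']
      norm_num
    · -- `q = 4`
      have h5 : p = 2 := by
        have h6 : p ∣ 2 ^ 2 := by
          rw [show (2 : ℕ) ^ 2 = 4 by norm_num, ← h4]
          exact dvd_pow_self p hf0.ne'
        exact (Nat.prime_dvd_prime_iff_eq hp Nat.prime_two).1 (hp.dvd_of_dvd_pow h6)
      subst h5
      have h6 : f = 2 := pow_inj' le_rfl (by rw [h4]; norm_num)
      subst h6
      rw [show 2 * Nat.gcd 3 (2 ^ 2 - 1) * 2 = 12 by norm_num] at hout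
      refine ⟨_, mo hout.le hB, fun H hH => ?_⟩
      refine lt_of_lt_of_le ?_ (Cfsg.Agent.H934.HeisE6.two_mul_le hs H hH)
      rw [hF']
      norm_num
  · refine ⟨_, mo hout.le hB, fun H hH => ?_⟩
    refine lt_of_lt_of_le ?_ (Cfsg.Agent.H934.HeisE6.two_mul_le hs H hH)
    rw [hF']
    have h5 := num_e6 hp hf0 h3
    generalize 2 * Nat.gcd 3 (p ^ f - 1) * f = c at *
    generalize p ^ (if p = 2 then 4 else 3) = P at *
    generalize p ^ f = q at *
    have h4 : (5 * (q + 1)) ^ 6 ≤ (6 * q) ^ 6 := Nat.pow_le_pow_left (by omega) 6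
    have h6 : (5 * (q + 1)) ^ 6 * (c * P) ≤ (6 * q) ^ 6 * (6 * q ^ 3) := Nat.mul_le_mul h4 h5
    have h7 : 5 ^ 2 ≤ q ^ 2 := Nat.pow_le_pow_left h3 2
    have h8 : (6 * q) ^ 6 * (6 * q ^ 3) = 279936 * q ^ 9 := by ring
    have h11 : (5 * (q + 1)) ^ 6 * (c * P) = 15625 * (c * ((q + 1) ^ 6 * P)) := by ring
    have h9 : 0 < q ^ 9 := pow_pos (by omega) _
    have h10 : q ^ 11 = q ^ 2 * q ^ 9 := by ring
    rw [h10]
    rw [h11, h8] at h6
    nlinarith

/-! ### the rows -/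

/-- `Sm` for the groups isomorphic to `D.group F` -/
theorem sm_of_iso {D : ChevalleyDatum} (h : ∀ (F : Type) [Field F] [Fintype F], IsSimpleGroup ↥(D.group F) →
    Sm ↥(D.group F)) {T : Type v} [Group T] [IsSimpleGroup T] (hT : D.IsGroupOver T) : Sm T := by
  obtain ⟨F, _, _, ⟨e⟩⟩ := hT
  exact (h F (e.symm.isSimpleGroup)).congr e.symm

theorem row_of {D : ChevalleyDatum} (h : ∀ (F : Type) [Field F] [Fintype F], IsSimpleGroup ↥(D.group F) →
    Sm ↥(D.group F)) : Row3.{v, w} (fun T _ => D.IsGroupOver T) := by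
  intro G Ω _ _ T g hTC hT
  have := hTC.simple
  exact row_sm G Ω T g hTC (sm_of_iso h hT)

theorem sm_isoE8 {T : Type v} [Group T] [IsSimpleGroup T] (h : IsoE8 T) : Sm T := sm_of_iso (fun _ _ _ hs => sm_e8 hs) h
theorem sm_isoE7 {T : Type v} [Group T] [IsSimpleGroup T] (h : IsoE7 T) : Sm T := sm_of_iso (fun _ _ _ hs => sm_e7 hs) h
theorem sm_isoE6 {T : Type v} [Group T] [IsSimpleGroup T] (h : IsoChevE6 T) : Sm T :=
  sm_of_iso (fun _ _ _ hs => sm_e6 hs) h

/-- **The row `E₈(q)`.** -/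
theorem row_e8 : Row3.{v, w} (fun T _ => IsoE8 T) := row_of fun _ _ _ hs => sm_e8 hs

/-- **The row `E₇(q)`.** -/
theorem row_e7 : Row3.{v, w} (fun T _ => IsoE7 T) := row_of fun _ _ _ hs => sm_e7 hs

/-- **The row `E₆(q)`.** -/
theorem row_e6 : Row3.{v, w} (fun T _ => IsoChevE6 T) := row_of fun _ _ _ hs => sm_e6 hs

end Cfsg.Agent.H501.TwoCyc.Rows
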